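import Groth.Agent.Resolve13.DivisorPts
import Groth.Agent.CurvesLib24.Basic
import Groth.Agent.CurveLib.Basic
import Mathlib

/-!
# Modifying a curve in a (possibly non-separated) scheme to reach a point of the closure of its image
-/

set_option autoImplicit false
set_option linter.style.haveILetI false
set_option backward.isDefEq.respectTransparency.types false
universe u

namespace Groth.Agent.NoriSS5
open CategoryTheory CategoryTheory.Limits AlgebraicGeometry TopologicalSpace Groth.Agent.Resolve13.DivisorPts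

variable {C X : Scheme.{u}} [IsIntegral C]

theorem isClosed_singleton_of_ne_generic (hdim : topologicalKrullDim C ≤ 1) {c : C}
    (hc : c ≠ genericPoint C) : IsClosed ({c} : Set C) := by
  rw [← closure_subset_iff_isClosed]
  intro z hz
  exact ((CurveLib.eq_or_eq_of_dim_one ((CurvesLib24.stalk_dim_le_topologicalKrullDim z).trans hdim)
    (genericPoint_specializes c) (specializes_iff_mem_closure.2 hz)).resolve_right hc).symm

theorem isClosed_of_generic_notMem [NoetherianSpace C] (hdim : topologicalKrullDim C ≤ 1) {F : Set C}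
    (hF : IsClosed F) (h : genericPoint C ∉ F) (S : Set C) (hS : S ⊆ F) : IsClosed S := by
  have hne : ∀ y ∈ F, y ≠ genericPoint C := fun y hy e => h (e ▸ hy)
  have hfin : F.Finite := by
    obtain ⟨T, hT, hTc, hTi, rfl⟩ := NoetherianSpace.exists_finite_set_isClosed_irreducible hF
    refine hT.sUnion fun t ht => ?_
    obtain ⟨y, hy⟩ := QuasiSober.sober (hTi t ht) (hTc t ht)
    rw [← hy.def, (isClosed_singleton_of_ne_generic hdim (hne y ⟨t, ht, hy.mem⟩)).closure_eq]
    exact Set.finite_singleton y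
  rw [← Set.biUnion_of_singleton S]
  exact (hfin.subset hS).isClosed_biUnion fun y hy => isClosed_singleton_of_ne_generic hdim (hne y (hS hy))

/-- Gluing two morphisms defined on opens covering the source. -/
theorem exists_glue_pair {Y : Scheme.{u}} (A B : C.Opens) (hAB : (A : Set C) ∪ B = Set.univ)
    (f : A.toScheme ⟶ Y) (g : B.toScheme ⟶ Y)
    (hfg : C.homOfLE (inf_le_left : A ⊓ B ≤ A) ≫ f = C.homOfLE inf_le_right ≫ g) :
    ∃ h : C ⟶ Y, A.ι ≫ h = f ∧ B.ι ≫ h = g := by
  let V : ULift.{u} Bool → C.Opens := fun i => if i.down then A else B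
  have hV : IsOpenCover V := by
    refine top_le_iff.1 fun x _ => ?_
    rcases (hAB.symm ▸ Set.mem_univ x : x ∈ (A : Set C) ∪ B) with hx | hx
    · exact Opens.mem_iSup.2 ⟨⟨true⟩, hx⟩
    · exact Opens.mem_iSup.2 ⟨⟨false⟩, hx⟩
  let G : ∀ i : ULift.{u} Bool, (V i).toScheme ⟶ Y := fun i =>
    match i with
    | ⟨true⟩ => f
    | ⟨false⟩ => g
  have key : ∀ {W : Scheme.{u}} (a : W ⟶ A.toScheme) (b : W ⟶ B.toScheme), a ≫ A.ι = b ≫ B.ι → a ≫ f = b ≫ g := by
    intro W a b hab
    let c : W ⟶ (A ⊓ B).toScheme := IsOpenImmersion.lift (A ⊓ B).ι (a ≫ A.ι) (by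
      rw [Scheme.Opens.range_ι]
      rintro _ ⟨w, rfl⟩
      exact ⟨(a w).2, by rw [hab]; exact (b w).2⟩)
    have hc : c ≫ (A ⊓ B).ι = a ≫ A.ι := IsOpenImmersion.lift_fac _ _ _
    have ha : c ≫ C.homOfLE inf_le_left = a := by rw [← cancel_mono A.ι, Category.assoc, Scheme.homOfLE_ι, hc]
    have hb : c ≫ C.homOfLE inf_le_right = b := by rw [← cancel_mono B.ι, Category.assoc, Scheme.homOfLE_ι, hc, hab]
    rw [← ha, ← hb, Category.assoc, Category.assoc, hfg]
  let 𝒰 := C.openCoverOfIsOpenCover V hV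
  have hG : ∀ i j, pullback.fst (𝒰.f i) (𝒰.f j) ≫ G i = pullback.snd (𝒰.f i) (𝒰.f j) ≫ G j := by
    rintro ⟨_ | _⟩ ⟨_ | _⟩
    · have hc := pullback.condition (f := B.ι) (g := B.ι)
      exact congrArg (· ≫ g) ((cancel_mono B.ι).1 hc)
    · exact (key _ _ (pullback.condition (f := B.ι) (g := A.ι)).symm).symm
    · exact key _ _ (pullback.condition (f := A.ι) (g := B.ι))
    · have hc := pullback.condition (f := A.ι) (g := A.ι)
      exact congrArg (· ≫ f) ((cancel_mono A.ι).1 hc)
  exact ⟨Scheme.Cover.glueMorphisms 𝒰 G hG, Scheme.Cover.ι_glueMorphisms 𝒰 G hG ⟨true⟩,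
    Scheme.Cover.ι_glueMorphisms 𝒰 G hG ⟨false⟩⟩

set_option maxHeartbeats 1000000 in
/-- A closed point in the closure of the image of a proper normal curve lies on a modification of the curve. -/
theorem exists_modification {k : Type u} [Field k] (pX : X ⟶ Spec (CommRingCat.of k)) [LocallyOfFiniteType pX]
    (γ : C ⟶ X) [IsProper (γ ≫ pX)] [IsLocallyNoetherian C] [NoetherianSpace C]
    (hdim : topologicalKrullDim C ≤ 1) (hn : ∀ c : C, IsIntegrallyClosed (C.presheaf.stalk c))
    {z : X} (hz : IsClosed ({z} : Set X)) (hsp : γ (genericPoint C) ⤳ z) :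
    ∃ γ' : C ⟶ X, γ' ≫ pX = γ ≫ pX ∧ γ' (genericPoint C) = γ (genericPoint C) ∧ z ∈ Set.range γ' := by
  classical
  let η := genericPoint C
  by_cases hyz : γ η = z
  · exact ⟨γ, rfl, rfl, η, hyz⟩
  let y := γ η
  let K := C.residueField η
  let ψ : X.presheaf.stalk z ⟶ K := X.presheaf.stalkSpecializes hsp ≫ γ.stalkMap η ≫ C.residue η
  have hψgerm : ∀ (O : X.Opens) (hzO : z ∈ O) (a : Γ(X, O)), ψ (X.presheaf.germ O z hzO a) =
      C.residue η (γ.stalkMap η (X.presheaf.germ O y (hsp.mem_open O.2 hzO) a)) := fun O hzO a => by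
    show C.residue η (γ.stalkMap η (X.presheaf.stalkSpecializes hsp (X.presheaf.germ O z hzO a))) = _
    rw [TopCat.Presheaf.germ_stalkSpecializes_apply]
  -- a valuation ring dominating the local ring of `z`
  obtain ⟨V, hψV, hloc⟩ := IsLocalRing.exists_factor_valuationRing ψ.hom
  -- it is not the whole field
  obtain ⟨W, hW, hzW, -⟩ := exists_isAffineOpen_mem_and_subset (x := z) (U := (⊤ : X.Opens)) trivial
  have hyW : y ∈ W := hsp.mem_open W.2 hzW
  obtain ⟨a, haO, hya⟩ := hW.exists_basicOpen_le (V := (⟨({z} : Set X)ᶜ, hz.isOpen_compl⟩ : X.Opens)) ⟨y, hyz⟩ hyW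
  have hau : ¬ IsUnit (X.presheaf.germ W z hzW a) := fun h =>
    (haO ((Scheme.mem_basicOpen X a z hzW).2 h)) rfl
  have hψu : ψ (X.presheaf.germ W z hzW a) ≠ 0 := by
    rw [hψgerm W hzW a]
    exact ((((Scheme.mem_basicOpen X a y hyW).1 hya).map (γ.stalkMap η).hom).map (C.residue η).hom).ne_zero
  have hVtop : (ψ (X.presheaf.germ W z hzW a))⁻¹ ∉ V := fun h => by
    refine hau (hloc.1 _ ?_)
    exact isUnit_iff_exists_inv.2 ⟨⟨_, h⟩, Subtype.ext (mul_inv_cancel₀ hψu)⟩
  -- its centre on the curve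
  have hVk : ∀ b : k, (C.residue η).hom ((C.presheaf.germ (⊤ : C.Opens) η trivial).hom (Coh.toGlobal (γ ≫ pX) b)) ∈ V := by
    intro b
    have h1 : ψ (X.presheaf.germ (⊤ : X.Opens) z trivial (Coh.toGlobal pX b)) =
        (C.residue η).hom ((C.presheaf.germ (⊤ : C.Opens) η trivial).hom (Coh.toGlobal (γ ≫ pX) b)) := by
      rw [hψgerm ⊤ trivial]
      refine congrArg (C.residue η).hom ?_
      exact Scheme.Hom.germ_stalkMap_apply γ ⊤ η trivial _
    exact h1 ▸ hψV _
  obtain ⟨c, hc, hcV⟩ := exists_center (γ ≫ pX) η V hVk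
  let j : C.presheaf.stalk c →+* K := (C.residue η).hom.comp (sp hc)
  have hres : Function.Injective (C.residue η).hom := RingHom.injective (R := C.functionField) (C.residue η).hom
  have hjinj : Function.Injective j := hres.comp (sp_injective hc)
  have hsurj : Function.Surjective (C.residue η).hom := IsLocalRing.residue_surjective
  have hfrac : ∀ v : K, ∃ r s : C.presheaf.stalk c, s ≠ 0 ∧ v * j s = j r := fun v => by
    obtain ⟨w, rfl⟩ := hsurj v
    obtain ⟨⟨r, s⟩, hrs⟩ := IsLocalization.surj (nonZeroDivisors (C.presheaf.stalk c)) (w : C.functionField)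
    exact ⟨r, s, nonZeroDivisors.ne_zero s.2, by
      show _ * (C.residue η).hom (sp hc (s : C.presheaf.stalk c)) = (C.residue η).hom (sp hc r)
      rw [← map_mul]; exact congrArg _ hrs⟩
  have hcη : c ≠ η := by
    rintro rfl
    refine hVtop ?_
    obtain ⟨w, hw⟩ := hsurj (ψ (X.presheaf.germ W z hzW a))⁻¹
    rw [← hw, ← sp_refl η w]
    exact hcV w
  haveI : IsPrincipalIdealRing (C.presheaf.stalk c) := CurvesLib24.isPrincipalIdealRing_stalk hdim c (hn c)
  -- the valuation ring is the local ring of the centre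
  have hVc : ∀ v ∈ V, ∃ t, j t = v := by
    intro v hv
    obtain ⟨r, s, hs, hrs⟩ := hfrac v
    haveI : ValuationRing (C.presheaf.stalk c) := ValuationRing.iff_local_bezout_domain.2 ⟨inferInstance, inferInstance⟩
    obtain ⟨q, hq | hq⟩ := ValuationRing.cond r s
    · -- `r * q = s`
      have hr0 : r ≠ 0 := fun h => hs (by rw [← hq, h, zero_mul])
      have hvq : v * j q = 1 := by
        have := hrs
        rw [← hq, map_mul, mul_comm (j r), ← mul_assoc] at this
        exact mul_right_cancel₀ (b := j r) (fun h => hr0 (hjinj (h.trans (map_zero j).symm))) (this.trans (one_mul _).symm)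
      by_cases hqu : IsUnit q
      · obtain ⟨q', hq'⟩ := hqu.exists_right_inv
        exact ⟨q', by
          have h1 : j q * j q' = 1 := by rw [← map_mul, hq', map_one]
          calc j q' = v * j q * j q' := by rw [hvq, one_mul]
            _ = v := by rw [mul_assoc, h1, mul_one]⟩
      · exfalso
        refine hVtop ?_
        obtain ⟨r', s', hs', hrs'⟩ := hfrac (ψ (X.presheaf.germ W z hzW a))⁻¹
        obtain ⟨n, t, ht⟩ : ∃ (n : ℕ) (t : C.presheaf.stalk c), q ^ n = t * s' := by
          have hmem : q ∈ (Ideal.span {s'}).radical := by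
            rw [Ideal.radical_eq_sInf, Submodule.mem_sInf]
            rintro J ⟨hJ, hJp⟩
            haveI := hJp
            have hJ0 : J ≠ ⊥ := fun h => hs' (by
              have := hJ (Ideal.mem_span_singleton_self s'); rw [h] at this; exact this)
            rw [IsLocalRing.eq_maximalIdeal (IsPrime.to_maximal_ideal hJ0)]
            exact hqu
          obtain ⟨n, hn'⟩ := hmem
          obtain ⟨t, ht⟩ := Ideal.mem_span_singleton'.1 hn'
          exact ⟨n, t, ht.symm⟩
        have h1 : (ψ (X.presheaf.germ W z hzW a))⁻¹ = v ^ n * j (t * r') := by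
          have h2 : v ^ n * (j q) ^ n = 1 := by rw [← mul_pow, hvq, one_pow]
          calc _ = (ψ (X.presheaf.germ W z hzW a))⁻¹ * (v ^ n * (j q) ^ n) := by rw [h2, mul_one]
            _ = v ^ n * j t * ((ψ (X.presheaf.germ W z hzW a))⁻¹ * j s') := by
              rw [← map_pow, ht, map_mul]; ring
            _ = _ := by rw [hrs', mul_assoc, ← map_mul]
        rw [h1]
        exact mul_mem (pow_mem hv n) (hcV _)
    · -- `s * q = r`
      refine ⟨q, ?_⟩
      have hjs : j s ≠ 0 := fun h => hs (hjinj (h.trans (map_zero j).symm))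
      refine mul_right_cancel₀ hjs ?_
      rw [hrs, ← map_mul, mul_comm, hq]
  -- the map of local rings
  let jeq : C.presheaf.stalk c ≃+* j.range := RingEquiv.ofBijective j.rangeRestrict
    ⟨fun a b h => hjinj (congrArg Subtype.val h), RingHom.rangeRestrict_surjective j⟩
  let φ₀ : X.presheaf.stalk z →+* C.presheaf.stalk c :=
    jeq.symm.toRingHom.comp (ψ.hom.codRestrict j.range fun t => hVc _ (hψV t))
  have hjφ : ∀ t, j (φ₀ t) = ψ t := fun t =>
    congrArg Subtype.val (jeq.apply_symm_apply (ψ.hom.codRestrict j.range (fun t => hVc _ (hψV t)) t))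
  haveI : IsLocalHom φ₀ := ⟨fun t ht => hloc.1 t (by
    obtain ⟨w, hw⟩ := ht.exists_right_inv
    exact isUnit_iff_exists_inv.2 ⟨⟨j w, hcV w⟩, Subtype.ext (by
      show ψ t * j w = 1
      rw [← hjφ, ← map_mul, hw, map_one])⟩)⟩
  let φS : Spec (C.presheaf.stalk c) ⟶ X := Spec.map (CommRingCat.ofHom φ₀) ≫ X.fromSpecStalk z
  let e : Spec K ⟶ Spec (C.presheaf.stalk c) := Spec.map (CommRingCat.ofHom j)
  have he : e ≫ C.fromSpecStalk c = C.fromSpecResidueField η := by
    rw [show e = Spec.map (C.residue η) ≫ Spec.map (C.presheaf.stalkSpecializes hc) from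
      (congrArg Spec.map (show CommRingCat.ofHom j = C.presheaf.stalkSpecializes hc ≫ C.residue η from rfl)).trans
        (Spec.map_comp _ _), Category.assoc, Scheme.SpecMap_stalkSpecializes_fromSpecStalk]
    rfl
  have heφ : e ≫ φS = C.fromSpecResidueField η ≫ γ := by
    have : CommRingCat.ofHom φ₀ ≫ CommRingCat.ofHom j = ψ := CommRingCat.hom_ext (RingHom.ext hjφ)
    show Spec.map (CommRingCat.ofHom j) ≫ Spec.map (CommRingCat.ofHom φ₀) ≫ X.fromSpecStalk z = _
    rw [← Category.assoc, ← Spec.map_comp, this, Spec.map_comp, Spec.map_comp, Category.assoc, Category.assoc,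
      Scheme.SpecMap_stalkSpecializes_fromSpecStalk, Scheme.SpecMap_stalkMap_fromSpecStalk]
    rfl
  have hφp : φS ≫ pX = C.fromSpecStalk c ≫ γ ≫ pX := by
    have hm : ∀ (m₁ m₂ : Spec (C.presheaf.stalk c) ⟶ Spec (CommRingCat.of k)), e ≫ m₁ = e ≫ m₂ → m₁ = m₂ := by
      intro m₁ m₂ hm
      rw [← Spec.map_preimage m₁, ← Spec.map_preimage m₂, ← Spec.map_comp, ← Spec.map_comp] at hm
      rw [← Spec.map_preimage m₁, ← Spec.map_preimage m₂]
      refine congrArg Spec.map (CommRingCat.hom_ext (RingHom.ext fun b => hjinj ?_))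
      exact ConcreteCategory.congr_hom (Spec.map_injective hm) b
    refine hm _ _ ?_
    rw [reassoc_of% heφ, reassoc_of% he]
  obtain ⟨U, hcU, f, hf, hfp⟩ := spread_out_of_isGermInjective' (x := c) (γ ≫ pX) pX φS hφp
  -- the neighbourhood where both maps land in `W`
  let U1 : C.Opens := U.ι ''ᵁ (f ⁻¹ᵁ W)
  let G : C.Opens := γ ⁻¹ᵁ W
  have hU1 : U1 ≤ U := U.ι_image_le _
  have hcU1 : c ∈ U1 := by
    refine ⟨⟨c, hcU⟩, ?_, rfl⟩
    show f ⟨c, hcU⟩ ∈ W
    have h1 : φS (IsLocalRing.closedPoint _) = z := by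
      rw [Scheme.Hom.comp_apply, Spec_closedPoint, Scheme.fromSpecStalk_closedPoint]
    have h2 : U.fromSpecStalkOfMem c hcU (IsLocalRing.closedPoint _) = ⟨c, hcU⟩ := by
      apply Subtype.ext
      show (U.fromSpecStalkOfMem c hcU ≫ U.ι) _ = c
      rw [Scheme.Opens.fromSpecStalkOfMem_ι, Scheme.fromSpecStalk_closedPoint]
    rw [← h2, ← Scheme.Hom.comp_apply, ← hf, h1]
    exact hzW
  have hηU : η ∈ U := (genericPoint_specializes c).mem_open U.2 hcU
  have hηU1 : η ∈ U1 := (genericPoint_specializes c).mem_open U1.2 hcU1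
  let T : C.Opens := U1 ⊓ G
  let l : Spec K ⟶ T.toScheme := IsOpenImmersion.lift T.ι (C.fromSpecResidueField η) (by
    rw [Scheme.Opens.range_ι, Scheme.range_fromSpecResidueField]
    exact Set.singleton_subset_iff.2 ⟨hηU1, hyW⟩)
  have hl : l ≫ T.ι = C.fromSpecResidueField η := IsOpenImmersion.lift_fac _ _ _
  haveI : IsDominant l := by
    refine ⟨fun p => ?_⟩
    rw [T.ι.isOpenEmbedding.isInducing.closure_eq_preimage_closure_image, Set.mem_preimage, ← Set.range_comp]
    refine closure_mono (t := Set.range (T.ι ∘ l)) ?_ ((genericPoint_specializes (T.ι p)).mem_closure)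
    rintro _ rfl
    exact ⟨IsLocalRing.closedPoint K, by
      rw [Function.comp_apply, ← Scheme.Hom.comp_apply, hl, Scheme.fromSpecResidueField_apply]⟩
  haveI : IsReduced T.toScheme := isReduced_of_isOpenImmersion T.ι
  have hTU : T ≤ U := inf_le_left.trans hU1
  have hagree : C.homOfLE hTU ≫ f = T.ι ≫ γ := by
    have hr1 : Set.range (C.homOfLE hTU ≫ f) ⊆ Set.range W.ι := by
      rw [Scheme.Opens.range_ι]
      rintro _ ⟨p, rfl⟩
      obtain ⟨q, hq, hqp⟩ := p.2.1
      have : C.homOfLE hTU p = q := U.ι.isOpenEmbedding.injective (by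
        rw [← Scheme.Hom.comp_apply, Scheme.homOfLE_ι]; exact hqp.symm)
      rw [Scheme.Hom.comp_apply, this]
      exact hq
    have hr2 : Set.range (T.ι ≫ γ) ⊆ Set.range W.ι := by
      rw [Scheme.Opens.range_ι]
      rintro _ ⟨p, rfl⟩
      exact p.2.2
    haveI : IsAffine W.toScheme := hW
    have e0 : l ≫ C.homOfLE hTU ≫ f = l ≫ T.ι ≫ γ := by
      have h1 : l ≫ C.homOfLE hTU = e ≫ U.fromSpecStalkOfMem c hcU := by
        rw [← cancel_mono U.ι, Category.assoc, Category.assoc, Scheme.homOfLE_ι, hl,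
          Scheme.Opens.fromSpecStalkOfMem_ι, he]
      rw [reassoc_of% h1, ← hf, reassoc_of% hl, heφ]
    have h2 : IsOpenImmersion.lift W.ι _ hr1 = IsOpenImmersion.lift W.ι _ hr2 := by
      refine ext_of_isDominant l ?_
      rw [← cancel_mono W.ι, Category.assoc, Category.assoc, IsOpenImmersion.lift_fac, IsOpenImmersion.lift_fac, e0]
    rw [← IsOpenImmersion.lift_fac W.ι _ hr1, h2, IsOpenImmersion.lift_fac]
  -- glue
  have hGc : IsClosed ((G : Set C)ᶜ \ {c}) :=
    isClosed_of_generic_notMem hdim G.2.isClosed_compl (fun h => h hyW) _ Set.diff_subset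
  let U' : C.Opens := U1 ⊓ ⟨((G : Set C)ᶜ \ {c})ᶜ, hGc.isOpen_compl⟩
  let V0 : C.Opens := ⟨({c} : Set C)ᶜ, (isClosed_singleton_of_ne_generic hdim hcη).isOpen_compl⟩
  have hU'U : U' ≤ U := inf_le_left.trans hU1
  have hT' : U' ⊓ V0 ≤ T := fun p hp => ⟨hp.1.1, by
    by_contra h
    exact hp.1.2 ⟨h, hp.2⟩⟩
  have hcU' : c ∈ U' := ⟨hcU1, fun h => h.2 rfl⟩
  obtain ⟨γ', hγU, hγV⟩ := exists_glue_pair U' V0 (by
      refine Set.eq_univ_of_forall fun p => ?_
      by_cases hp : p = c
      · exact Or.inl (hp ▸ hcU')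
      · exact Or.inr hp)
    (C.homOfLE hU'U ≫ f) (V0.ι ≫ γ) (by
      rw [← Category.assoc, ← Category.assoc, Scheme.homOfLE_homOfLE, Scheme.homOfLE_ι,
        ← C.homOfLE_homOfLE hT' hTU, Category.assoc, hagree, ← Category.assoc, Scheme.homOfLE_ι])
  refine ⟨γ', ?_, ?_, c, ?_⟩
  · have hηV : η ∈ V0 := fun h => hcη (Eq.symm h)
    have h1 : V0.ι ≫ γ' ≫ pX = V0.ι ≫ γ ≫ pX := by rw [reassoc_of% hγV]
    haveI : IsDominant V0.ι := ⟨by
      rw [DenseRange, Scheme.Opens.range_ι]
      exact dense_iff_closure_eq.2 (Set.eq_univ_of_forall fun p =>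
        closure_mono (Set.singleton_subset_iff.2 hηV) (genericPoint_specializes p).mem_closure)⟩
    exact ext_of_isDominant V0.ι h1
  · have hηV : η ∈ V0 := fun h => hcη (Eq.symm h)
    exact (congrArg (fun m : V0.toScheme ⟶ X => m ⟨η, hηV⟩) hγV :)
  · have h1 : γ' c = f ⟨c, hcU⟩ := by
      have := congrArg (fun m : U'.toScheme ⟶ X => m ⟨c, hcU'⟩) hγU
      rw [Scheme.Hom.comp_apply, Scheme.Hom.comp_apply] at this
      refine this.trans (congrArg f ?_)
      apply U.ι.isOpenEmbedding.injective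
      rw [← Scheme.Hom.comp_apply, Scheme.homOfLE_ι]
      rfl
    rw [h1]
    have h1 : φS (IsLocalRing.closedPoint _) = z := by
      rw [Scheme.Hom.comp_apply, Spec_closedPoint, Scheme.fromSpecStalk_closedPoint]
    rw [← h1, hf, Scheme.Hom.comp_apply]
    congr 1
    apply Subtype.ext
    show c = (U.fromSpecStalkOfMem c hcU ≫ U.ι) _
    rw [Scheme.Opens.fromSpecStalkOfMem_ι, Scheme.fromSpecStalk_closedPoint]

end Groth.Agent.NoriSS5
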