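import Groth.Agent.Props12.FinLocFree
import Groth.Agent.ModStalk.Pullback
import Groth.Agent.SplitP1.Split
import Mathlib

/-!
# Fibre ranks of modules: base change and semicontinuity
-/

set_option autoImplicit false
set_option linter.style.haveILetI false
set_option backward.isDefEq.respectTransparency.types false
universe u

namespace Groth.Agent.NoriSS5
open CategoryTheory CategoryTheory.Limits AlgebraicGeometry TopologicalSpace TensorProduct

/-- The fibre rank of a module at a point. -/
noncomputable def fdim {X : Scheme.{u}} (M : X.Modules) (x : X) : ℕ :=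
  Module.finrank (IsLocalRing.ResidueField (X.presheaf.stalk x))
    ((IsLocalRing.ResidueField (X.presheaf.stalk x)) ⊗[X.presheaf.stalk x] (M.presheaf.stalk x))

/-- Fibre ranks do not change under extension of scalars along a local map. -/
theorem finrank_residue_extendScalars {A B : Type u} [CommRing A] [CommRing B] [IsLocalRing A] [IsLocalRing B]
    (φ : A →+* B) [IsLocalHom φ] (M : ModuleCat.{u} A) :
    Module.finrank (IsLocalRing.ResidueField B)
      ((IsLocalRing.ResidueField B) ⊗[B] ((ModuleCat.extendScalars φ).obj M : ModuleCat.{u} B)) =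
    Module.finrank (IsLocalRing.ResidueField A) ((IsLocalRing.ResidueField A) ⊗[A] M) := by
  letI : Algebra A B := φ.toAlgebra
  haveI : IsLocalHom (algebraMap A B) := ‹IsLocalHom φ›
  show Module.finrank (IsLocalRing.ResidueField B) ((IsLocalRing.ResidueField B) ⊗[B] (B ⊗[A] M)) = _
  rw [LinearEquiv.finrank_eq (TensorProduct.AlgebraTensorModule.cancelBaseChange A B (IsLocalRing.ResidueField B)
      (IsLocalRing.ResidueField B) M),
    ← LinearEquiv.finrank_eq (TensorProduct.AlgebraTensorModule.cancelBaseChange A (IsLocalRing.ResidueField A)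
      (IsLocalRing.ResidueField B) (IsLocalRing.ResidueField B) M)]
  exact Module.finrank_baseChange

theorem fdim_congr {X : Scheme.{u}} {M N : X.Modules} (e : M ≅ N) (x : X) : fdim M x = fdim N x := by
  let e' : (M.presheaf.stalk x : Type u) ≃ₗ[X.presheaf.stalk x] N.presheaf.stalk x :=
    ((DerSch.stalkFunctor X x).mapIso e).toLinearEquiv
  exact LinearEquiv.finrank_eq (TensorProduct.AlgebraTensorModule.congr (LinearEquiv.refl _ _) e')

theorem fdim_pullback {X Y : Scheme.{u}} (f : X ⟶ Y) (M : Y.Modules) (x : X) :
    fdim ((Scheme.Modules.pullback f).obj M) x = fdim M (f x) := by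
  let e' := ((ModStalk.pullbackStalkIso f x).app M).toLinearEquiv
  exact (LinearEquiv.finrank_eq (TensorProduct.AlgebraTensorModule.congr (LinearEquiv.refl _ _) e')).trans
    (finrank_residue_extendScalars (f.stalkMap x).hom ((DerSch.stalkFunctor Y (f x)).obj M))

theorem fdim_of_rank {X : Scheme.{u}} {r : ℕ} {M : X.Modules} (h : FlatMod.IsFinLocFreeOfRank r M) (x : X) :
    fdim M x = r := by
  obtain ⟨b⟩ := SplitP1.nonempty_basis_stalk h x
  rw [fdim, Module.finrank_eq_card_basis (b.baseChange _), Fintype.card_fin]

/-- Fibre rank is upper semicontinuous. -/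
theorem isClosed_fdim_ge {X : Scheme.{u}} (M : X.Modules) [Coh.IsQCoh M] (hT : CohB1.IsFT M) (n : ℕ) :
    IsClosed {x : X | n ≤ fdim M x} := by
  classical
  rw [← isOpen_compl_iff, isOpen_iff_forall_mem_open]
  intro x hx
  have := Props12.finite_stalk_of_isFT M hT x
  let b := Module.finBasisOfFinrankEq _ _ (rfl : fdim M x = fdim M x)
  choose v hv using fun i => TensorProduct.mk_surjective (X.presheaf.stalk x) (M.presheaf.stalk x)
    (IsLocalRing.ResidueField (X.presheaf.stalk x)) IsLocalRing.residue_surjective (b i)
  obtain ⟨W, hW, hxW, -, s, hspan⟩ := Props12.exists_nhd_generators M hT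
    (show x ∈ (⊤ : X.Opens) from trivial) v
    (IsLocalRing.span_eq_top_of_tmul_eq_basis v b hv).ge
  refine ⟨W, fun y hy => ?_, W.2, hxW⟩
  show ¬ n ≤ fdim M y
  have hle : fdim M y ≤ fdim M x := by
    have hsp : ⊤ ≤ Submodule.span (IsLocalRing.ResidueField (X.presheaf.stalk y))
        (Set.range fun j => (1 : IsLocalRing.ResidueField (X.presheaf.stalk y)) ⊗ₜ[X.presheaf.stalk y]
          M.presheaf.germ W y hy (s j)) := by
      intro t _
      induction t using TensorProduct.induction_on with
      | zero => exact zero_mem _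
      | add t t' ht ht' => exact add_mem (ht trivial) (ht' trivial)
      | tmul a m =>
        obtain ⟨d, rfl⟩ := (Submodule.mem_span_range_iff_exists_fun (X.presheaf.stalk y)).1
          (Props12.span_germ_eq_top M hW hspan hy (Submodule.mem_top (x := m)))
        rw [TensorProduct.tmul_sum]
        refine Submodule.sum_mem _ fun j _ => ?_
        rw [TensorProduct.tmul_smul, TensorProduct.smul_tmul', ← mul_one (d j • a),
          ← smul_eq_mul, ← TensorProduct.smul_tmul']
        exact Submodule.smul_mem _ _ (Submodule.subset_span ⟨j, rfl⟩)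
    exact (finrank_le_of_span_eq_top (eq_top_iff.2 hsp)).trans_eq (Fintype.card_fin _)
  have : ¬ n ≤ fdim M x := hx
  omega

end Groth.Agent.NoriSS5
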