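import Groth.Agent.NoriSS5.Extend
import Groth.Agent.NoriSS5.Rank
import Groth.Agent.VB5.MaxDestab
import Groth.Agent.VarietyLib.CurveDegree
import Groth.Agent.Clifford24.StableFamily
import Groth.Agent.ArtFunLib.QuotLift.Core

/-!
# Maps of Nori-semistable bundles have constant rank
-/

set_option autoImplicit false
set_option linter.style.haveILetI false
set_option linter.unusedSectionVars false
set_option backward.isDefEq.respectTransparency.types false
universe u

namespace Groth.Agent.NoriSS5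
open CategoryTheory CategoryTheory.Limits AlgebraicGeometry TopologicalSpace

/-- The cokernel of a map of semistable bundles of degree zero on a curve is a bundle. -/
theorem exists_rank_cokernel (k : Type u) [Field k] {C : Scheme.{u}} [C.Over (Spec (CommRingCat.of k))]
    [IsIntegral C] [IsProper (C ↘ Spec (CommRingCat.of k))] [Smooth (C ↘ Spec (CommRingCat.of k))]
    (hdim : topologicalKrullDim C = 1) {r s : ℕ} {E F : C.Modules}
    (hE : FlatMod.IsFinLocFreeOfRank r E) (hF : FlatMod.IsFinLocFreeOfRank s F)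
    (hEss : ModFun.IsSlopeSemistable k C E r) (hEd : Curv2.deg k C E r = 0)
    (hFss : ModFun.IsSlopeSemistable k C F s) (hFd : Curv2.deg k C F s = 0) (f : E ⟶ F) :
    ∃ n, FlatMod.IsFinLocFreeOfRank n (cokernel f) := by
  haveI := CurveRR24.isLocallyNoetherian_of_proper k (X := C)
  have hn := VB5.isIntegrallyClosed_stalk k (X := C)
  have hEc := SplitP1.isCoh_of_rank hE
  have hFc := SplitP1.isCoh_of_rank hF
  rcases Nat.eq_zero_or_pos s with hs | hs
  · subst hs
    have hzF := Clifford24.isZero_of_rank_zero hF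
    have hz : IsZero (cokernel f) := by
      rw [IsZero.iff_id_eq_zero, ← cancel_epi (cokernel.π f)]
      exact hzF.eq_of_src _ _
    exact ⟨0, fun x => (hF x).imp fun U hU => ⟨hU.1, hU.2.map fun e =>
      (Scheme.Modules.restrictFunctor U.ι).mapIso (hz.iso hzF) ≪≫ e⟩⟩
  have hE' := (VB5.ss_iff k hdim hn hE).2 hEss
  have hF' := (VB5.ss_iff k hdim hn hF).2 hFss
  rw [VB5.deg_eq_gdeg k hE] at hEd
  rw [VB5.deg_eq_gdeg k hF] at hFd
  obtain ⟨I, p, j, hp, hj, hpj, hI, -⟩ := VB5.exists_image k hdim hn hE hF f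
  haveI := hp
  haveI := hj
  have h0 : 0 ≤ VB5.gdeg k I := by
    rcases Nat.eq_zero_or_pos r with hr | hr
    · subst hr
      have hzI : IsZero I := by
        rw [IsZero.iff_id_eq_zero, ← cancel_epi p]
        exact (Clifford24.isZero_of_rank_zero hE).eq_of_src _ _
      rw [VB5.gdeg_of_isZero k hI hzI]
    · have hq := hE'.quot k hEc p hI
      rw [VB5.grk_eq hE, hEd, zero_mul] at hq
      exact nonneg_of_mul_nonneg_left hq (by exact_mod_cast hr)
  have eC : cokernel f ≅ cokernel j := cokernelIsoOfEq hpj.symm ≪≫ cokernelEpiComp p j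
  have hCf := VB5.bundle_cokernel_of_max k hdim hn hF j hI fun P jP hjP hP _ => by
    have h := hF' P jP hjP hP
    rw [VB5.grk_eq hF, hFd, zero_mul] at h
    exact (nonpos_of_mul_nonpos_left h (by exact_mod_cast hs)).trans h0
  exact ⟨_, fun x => (hCf x).imp fun U hU => ⟨hU.1, hU.2.map fun e =>
    (Scheme.Modules.restrictFunctor U.ι).mapIso eC ≪≫ e⟩⟩

/-- Nori-semistable bundles: every map has locally free cokernel. -/
theorem isFinLocFree_cokernel {k : Type u} [Field k] {X : Scheme.{u}} (pX : X ⟶ Spec (CommRingCat.of k))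
    [LocallyOfFiniteType pX] [CompactSpace X] [AlgebraicGeometry.IsReduced X]
    (hchain : ∀ y z : X, IsClosed ({y} : Set X) → IsClosed ({z} : Set X) → ∃ (n : ℕ) (C : Fin n → Scheme.{u}) (γ : ∀ i, C i ⟶ X),
      (∀ i, AlgebraicGeometry.IsIntegral (C i) ∧ IsProper (γ i ≫ pX) ∧ Smooth (γ i ≫ pX) ∧
        topologicalKrullDim (C i) = 1) ∧
      _root_.IsConnected (⋃ i, Set.range (γ i).base) ∧ y ∈ ⋃ i, Set.range (γ i).base ∧ z ∈ ⋃ i, Set.range (γ i).base)
    {r r' : ℕ} {E F : X.Modules} (hE : FlatMod.IsFinLocFreeOfRank r E) (hF : FlatMod.IsFinLocFreeOfRank r' F)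
    (f : E ⟶ F)
    (hcurve : ∀ (C : Scheme.{u}) (γ : C ⟶ X), AlgebraicGeometry.IsIntegral C → IsProper (γ ≫ pX) → Smooth (γ ≫ pX) →
      topologicalKrullDim C = 1 → (Set.range γ.base).Nontrivial →
      ∃ n, FlatMod.IsFinLocFreeOfRank n (cokernel ((Scheme.Modules.pullback γ).map f))) :
    FlatMod.IsFinLocFree (cokernel f) := by
  haveI : IsLocallyNoetherian X := LocallyOfFiniteType.isLocallyNoetherian pX
  haveI : JacobsonSpace X := LocallyOfFiniteType.jacobsonSpace pX
  have hQ : Coh.IsCoh (cokernel f) := Coherent.isCoh_cokernel f (SplitP1.isCoh_of_rank hE).1 (SplitP1.isCoh_of_rank hF)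
  haveI := hQ.1
  let g : X → ℕ := fdim (cokernel f)
  have hge : ∀ {x z : X}, x ⤳ z → g x ≤ g z := fun {x z} h =>
    h.mem_closed (isClosed_fdim_ge (cokernel f) hQ.2 (g x)) (show g x ≤ fdim (cokernel f) x from le_rfl)
  -- constant rank on the closure of the image of a curve
  have hconst : ∀ (C : Scheme.{u}) (γ : C ⟶ X), AlgebraicGeometry.IsIntegral C → IsProper (γ ≫ pX) → Smooth (γ ≫ pX) →
      topologicalKrullDim C = 1 → ∃ (n : ℕ) (Z : Set X), IsClosed Z ∧ Set.range γ.base ⊆ Z ∧ ∀ x ∈ Z, g x = n := by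
    intro C γ hC hp hsm hdim
    letI : C.Over (Spec (CommRingCat.of k)) := ⟨γ ≫ pX⟩
    haveI : IsProper (C ↘ Spec (CommRingCat.of k)) := hp
    haveI : Smooth (C ↘ Spec (CommRingCat.of k)) := hsm
    haveI := hC
    haveI := EulerLib.isNoetherian_of_proper k (X := C)
    have hrange : ∀ (γ' : C ⟶ X), γ' ≫ pX = γ ≫ pX → ∀ c, g (γ' c) = g (γ' (genericPoint C)) := by
      intro γ' hγ' c
      by_cases hnt : (Set.range γ'.base).Nontrivial
      · obtain ⟨n, hn⟩ := hcurve C γ' hC (hγ' ▸ hp) (hγ' ▸ hsm) hdim hnt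
        have : ∀ c, g (γ' c) = n := fun c => by
          rw [← fdim_of_rank hn c]
          show fdim (cokernel f) (γ' c) = _
          rw [← fdim_pullback γ' (cokernel f) c]
          exact fdim_congr (PreservesCokernel.iso (Scheme.Modules.pullback γ') f) c
        rw [this, this]
      · exact congrArg g (Set.not_nontrivial_iff.1 hnt ⟨c, rfl⟩ ⟨_, rfl⟩)
    refine ⟨g (γ (genericPoint C)), closure {γ (genericPoint C)}, isClosed_closure, ?_, fun x hx => ?_⟩
    · rintro _ ⟨c, rfl⟩
      exact ((genericPoint_specializes c).map γ.continuous).mem_closure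
    · have hx' : γ (genericPoint C) ⤳ x := specializes_iff_mem_closure.2 hx
      obtain ⟨z, hz, hzc⟩ := (isClosed_closure (s := ({x} : Set X))).exists_closed_singleton ⟨x, subset_closure rfl⟩
      have hxz : x ⤳ z := specializes_iff_mem_closure.2 hz
      haveI : IsProper (γ ≫ pX) := hp
      obtain ⟨γ', h1, h2, c, rfl⟩ := exists_modification pX γ hdim.le (VB5.isIntegrallyClosed_stalk k (X := C))
        hzc (hx'.trans hxz)
      have h3 := hrange γ' h1 c
      rw [h2] at h3
      exact le_antisymm ((hge hxz).trans_eq h3) (hge hx')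
  have hclosed : ∀ y z : X, IsClosed ({y} : Set X) → IsClosed ({z} : Set X) → g y = g z := by
    intro y z hy hz
    obtain ⟨N, C, γ, hC, hconn, hyU, hzU⟩ := hchain y z hy hz
    choose n Z hZ hsub hval using fun i => hconst (C i) (γ i) (hC i).1 (hC i).2.1 (hC i).2.2.1 (hC i).2.2.2
    by_contra hne
    let A : Set X := ⋃ i ∈ {i | n i = g y}, Z i
    let B : Set X := ⋃ i ∈ {i | n i ≠ g y}, Z i
    have hA : IsClosed A := (Set.toFinite _).isClosed_biUnion fun i _ => hZ i
    have hB : IsClosed B := (Set.toFinite _).isClosed_biUnion fun i _ => hZ i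
    have hcov : (⋃ i, Set.range (γ i).base) ⊆ A ∪ B := by
      refine Set.iUnion_subset fun i x hx => ?_
      by_cases h : n i = g y
      · exact Or.inl (Set.mem_biUnion (show i ∈ {i | n i = g y} from h) (hsub i hx))
      · exact Or.inr (Set.mem_biUnion (show i ∈ {i | n i ≠ g y} from h) (hsub i hx))
    have hdisj : ∀ x, x ∈ A → x ∉ B := by
      intro x hxA hxB
      obtain ⟨i, hi, hxi⟩ := Set.mem_iUnion₂.1 hxA
      obtain ⟨i', hi', hxi'⟩ := Set.mem_iUnion₂.1 hxB
      exact hi' (((hval i' x hxi').symm.trans (hval i x hxi)).trans hi)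
    have hyA : y ∈ A := by
      obtain ⟨i, hi⟩ := Set.mem_iUnion.1 hyU
      exact Set.mem_biUnion (show i ∈ {i | n i = g y} from (hval i y (hsub i hi)).symm) (hsub i hi)
    have hzB : z ∈ B := by
      obtain ⟨i, hi⟩ := Set.mem_iUnion.1 hzU
      exact Set.mem_biUnion (show i ∈ {i | n i ≠ g y} from fun h =>
        hne (h.symm.trans (hval i z (hsub i hi)).symm)) (hsub i hi)
    obtain ⟨x, -, hxA, hxB⟩ := isPreconnected_closed_iff.1 hconn.isPreconnected A B hA hB hcov
      ⟨y, hyU, hyA⟩ ⟨z, hzU, hzB⟩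
    exact hdisj x hxA hxB
  refine Props12.isFinLocFree_of_fibreRank_locallyConstant (cokernel f) hQ.2 ?_
  show IsLocallyConstant g
  rcases isEmpty_or_nonempty X with hX | hX
  · exact IsLocallyConstant.iff_exists_open _ |>.2 fun x => (hX.false x).elim
  obtain ⟨z₀, -, hz₀⟩ := (isClosed_univ (X := X)).exists_closed_singleton Set.univ_nonempty
  have hg : ∀ x, g x = g z₀ := by
    intro x
    refine le_antisymm ?_ ?_
    · obtain ⟨z, hz, hzc⟩ := (isClosed_closure (s := ({x} : Set X))).exists_closed_singleton ⟨x, subset_closure rfl⟩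
      exact (hge (specializes_iff_mem_closure.2 hz)).trans_eq (hclosed z z₀ hzc hz₀)
    · have hsub : closedPoints X ⊆ {x | g z₀ ≤ g x} := fun w hw => (hclosed z₀ w hz₀ hw).le
      exact closure_minimal hsub (isClosed_fdim_ge (cokernel f) hQ.2 (g z₀))
        (closure_closedPoints (X := X) ▸ Set.mem_univ x)
  rw [show g = fun _ => g z₀ from funext hg]
  exact IsLocallyConstant.const _

end Groth.Agent.NoriSS5
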